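import Groth.Agent.Lib.PhiStab20.Tree
import Mathlib.Algebra.Order.Round

/-! Stability of sheaf data on a multigraph: reduction to elementary sets, spanning trees. -/

set_option autoImplicit false

open Finset LabGraph PhiStab

namespace Groth.Agent.PhiStab20

universe u

variable {V E : Type u} [Fintype V] [Fintype E] [DecidableEq V] [DecidableEq E]

/-- `1` when the edge crosses `S`. -/
noncomputable def cross (ends : E → V × V) (S : Finset V) (e : E) : ℝ :=
  |(if (ends e).2 ∈ S then (1 : ℝ) else 0) - if (ends e).1 ∈ S then 1 else 0|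

/-- The slack of the stability inequality at `S`. -/
noncomputable def slack (ends : E → V × V) (φ : V → ℝ) (m : V → ℤ) (N : Finset E) (S : Finset V) : ℝ :=
  (degOn ends m N S : ℝ) - (∑ v ∈ S, φ v) + (cut ends S : ℝ) / 2

/-- The vertex weights of a datum. -/
noncomputable def wt (ends : E → V × V) (φ : V → ℝ) (m : V → ℤ) (N : Finset E) (v : V) : ℝ :=
  (m v : ℝ) - φ v + (endCount ends N v : ℝ) / 2

theorem cut_eq (ends : E → V × V) (S : Finset V) : (cut ends S : ℝ) = ∑ e, cross ends S e := by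
  rw [cut, Finset.card_filter]
  push_cast
  refine Finset.sum_congr rfl fun e _ => ?_
  by_cases h1 : (ends e).1 ∈ S <;> by_cases h2 : (ends e).2 ∈ S <;> simp [cross, h1, h2]

theorem cross_compl (ends : E → V × V) (S : Finset V) (e : E) :
    cross ends Sᶜ e = cross ends S e := by
  by_cases h1 : (ends e).1 ∈ S <;> by_cases h2 : (ends e).2 ∈ S <;> simp [cross, h1, h2]

theorem slack_eq (ends : E → V × V) (φ : V → ℝ) (m : V → ℤ) (N : Finset E) (S : Finset V) :
    slack ends φ m N S = (∑ v ∈ S, wt ends φ m N v) + (∑ e ∈ Nᶜ, cross ends S e) / 2 := by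
  have key : 2 * (((N ∩ PhiStab.inner ends S).card : ℝ)) + ∑ e ∈ N, cross ends S e =
      ∑ v ∈ S, (endCount ends N v : ℝ) := by
    simp only [endCount]
    push_cast
    rw [Finset.sum_comm]
    have : ((N ∩ PhiStab.inner ends S).card : ℝ) = ∑ e ∈ N, if e ∈ PhiStab.inner ends S then (1 : ℝ) else 0 := by
      simp [Finset.sum_ite_mem]
    rw [this, Finset.mul_sum, ← Finset.sum_add_distrib]
    refine Finset.sum_congr rfl fun e _ => ?_
    rw [Finset.sum_add_distrib, Finset.sum_ite_eq, Finset.sum_ite_eq]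
    by_cases h1 : (ends e).1 ∈ S <;> by_cases h2 : (ends e).2 ∈ S <;> norm_num [cross, PhiStab.inner, h1, h2]
  simp only [slack, wt, degOn, cut_eq]
  push_cast
  rw [Finset.sum_add_distrib, Finset.sum_sub_distrib, ← Finset.sum_div,
    ← Finset.sum_add_sum_compl N (cross ends S)]
  linarith

theorem sum_wt {ends : E → V × V} {φ : V → ℝ} {m : V → ℤ} {N : Finset E}
    (hdeg : (∑ v : V, φ v) = (totDeg m N : ℝ)) : ∑ v, wt ends φ m N v = 0 := by
  have : ∑ v, (endCount ends N v : ℝ) = 2 * (N.card : ℝ) := by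
    simp only [endCount]
    push_cast
    rw [Finset.sum_comm]
    simp [Finset.sum_add_distrib, two_mul]
  simp only [wt, Finset.sum_add_distrib, Finset.sum_sub_distrib, ← Finset.sum_div, this, hdeg, totDeg]
  push_cast
  ring

theorem isSemistable_iff (ends : E → V × V) (φ : V → ℝ) (m : V → ℤ) (N : Finset E) :
    IsSemistable ends φ m N ↔ ∀ S : Finset V, S.Nonempty → S ≠ univ → 0 ≤ slack ends φ m N S := by
  refine forall_congr' fun S => imp_congr_right fun _ => imp_congr_right fun _ => ?_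
  simp only [slack]
  constructor <;> intro h <;> linarith

theorem isStable_iff (ends : E → V × V) (φ : V → ℝ) (m : V → ℤ) (N : Finset E) :
    IsStable ends φ m N ↔ ∀ S : Finset V, S.Nonempty → S ≠ univ → 0 < slack ends φ m N S := by
  refine forall_congr' fun S => imp_congr_right fun _ => imp_congr_right fun _ => ?_
  simp only [slack]
  constructor <;> intro h <;> linarith

theorem slack_compl {ends : E → V × V} {φ : V → ℝ} {m : V → ℤ} {N : Finset E}
    (hdeg : (∑ v : V, φ v) = (totDeg m N : ℝ)) (S : Finset V) :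
    slack ends φ m N Sᶜ = -(∑ v ∈ S, wt ends φ m N v) + (∑ e ∈ Nᶜ, cross ends S e) / 2 := by
  rw [slack_eq]
  simp only [cross_compl]
  have := sum_wt (ends := ends) hdeg
  rw [← Finset.sum_add_sum_compl S] at this
  linarith

theorem ne_univ_iff (S : Finset V) : S ≠ univ ↔ Sᶜ.Nonempty := by
  rw [Finset.nonempty_iff_ne_empty, not_iff_not, Finset.compl_eq_empty_iff]

theorem exists_crossing {ends : E → V × V} (hG : Connected ends) {S : Finset V}
    (h1 : S.Nonempty) (h2 : S ≠ univ) : ∃ e, 0 < cross ends S e := by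
  by_contra hc
  push Not at hc
  obtain ⟨v, hv⟩ := h1
  refine h2 (eq_univ_of_forall fun w => ?_)
  induction hG.2 v w with
  | refl => exact hv
  | @tail b c _ hbc ih =>
    obtain ⟨e, he⟩ := hbc
    have := hc e
    by_contra hcS
    rcases he with he | he <;> norm_num [cross, he, ih, hcS] at this

theorem cut_pos {ends : E → V × V} (hG : Connected ends) {S : Finset V}
    (h1 : S.Nonempty) (h2 : S ≠ univ) : 0 < cut ends S := by
  obtain ⟨e, he⟩ := exists_crossing hG h1 h2
  have : (0 : ℝ) < cut ends S := by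
    rw [cut_eq]
    exact Finset.sum_pos' (fun e _ => abs_nonneg _) ⟨e, mem_univ e, he⟩
  exact_mod_cast this

/-- A set inducing a disconnected subgraph splits. -/
theorem exists_split (ends : E → V × V) {S : Finset V} (h1 : S.Nonempty)
    (h : ¬ Connected (indEnds ends S)) :
    ∃ A B : Finset V, A.Nonempty ∧ B.Nonempty ∧ Disjoint A B ∧ A ∪ B = S ∧
      ∀ e, ((ends e).1 ∈ A → (ends e).2 ∉ B) ∧ ((ends e).1 ∈ B → (ends e).2 ∉ A) := by
  classical
  obtain ⟨v, hv⟩ := h1
  let A := S.filter fun w => ∃ hw : w ∈ S,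
    Relation.ReflTransGen (Adj (indEnds ends S)) ⟨v, hv⟩ ⟨w, hw⟩
  refine ⟨A, S \ A, ⟨v, mem_filter.2 ⟨hv, hv, Relation.ReflTransGen.refl⟩⟩, ?_, disjoint_sdiff,
    union_sdiff_of_subset (filter_subset _ _), fun e => ⟨fun ha hb => ?_, fun hb ha => ?_⟩⟩
  · by_contra hne
    rw [Finset.not_nonempty_iff_eq_empty, Finset.sdiff_eq_empty_iff_subset] at hne
    refine h ⟨⟨⟨v, hv⟩⟩, fun x y => ?_⟩
    obtain ⟨-, hx, hx'⟩ := mem_filter.1 (hne x.2)
    obtain ⟨-, hy, hy'⟩ := mem_filter.1 (hne y.2)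
    haveI : Std.Symm (Adj (indEnds ends S)) := ⟨fun x y h => LabDetH28.adj_symm _ h⟩
    exact (Std.Symm.symm (r := Relation.ReflTransGen (Adj (indEnds ends S))) _ _ hx').trans hy'
  · obtain ⟨hb1, hb2⟩ := mem_sdiff.1 hb
    obtain ⟨ha1, hw, hreach⟩ := mem_filter.1 ha
    exact hb2 (mem_filter.2 ⟨hb1, hb1, hreach.tail
      ⟨⟨e, mem_filter.2 ⟨mem_univ _, ha1, hb1⟩⟩, Or.inl rfl⟩⟩)
  · obtain ⟨hb1, hb2⟩ := mem_sdiff.1 hb
    obtain ⟨ha1, hw, hreach⟩ := mem_filter.1 ha
    exact hb2 (mem_filter.2 ⟨hb1, hb1, hreach.tail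
      ⟨⟨e, mem_filter.2 ⟨mem_univ _, hb1, ha1⟩⟩, Or.inr rfl⟩⟩)

theorem cross_union (ends : E → V × V) {A B : Finset V} (hd : Disjoint A B) (e : E)
    (h : ((ends e).1 ∈ A → (ends e).2 ∉ B) ∧ ((ends e).1 ∈ B → (ends e).2 ∉ A)) :
    cross ends (A ∪ B) e = cross ends A e + cross ends B e := by
  have hd1 := fun hA : (ends e).1 ∈ A => Finset.disjoint_left.1 hd hA
  have hd2 := fun hA : (ends e).2 ∈ A => Finset.disjoint_left.1 hd hA
  by_cases h1 : (ends e).1 ∈ A <;> by_cases h2 : (ends e).2 ∈ A <;>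
    by_cases h3 : (ends e).1 ∈ B <;> by_cases h4 : (ends e).2 ∈ B <;>
    simp_all [cross]

/-- A property of proper sets that passes through splittings holds if it holds for elementary sets. -/
theorem forall_of_elementary {ends : E → V × V} (hG : Connected ends) {φ : V → ℝ} {m : V → ℤ}
    {N : Finset E} (hdeg : (∑ v : V, φ v) = (totDeg m N : ℝ)) (P : ℝ → Prop)
    (hP : ∀ a b : ℝ, P a → P b → P (a + b))
    (h : ∀ S, IsElementary ends S → P (slack ends φ m N S)) :
    ∀ S : Finset V, S.Nonempty → S ≠ univ → P (slack ends φ m N S) := by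
  suffices H : ∀ (n : ℕ) (S : Finset V), cut ends S = n → S.Nonempty → S ≠ univ →
      P (slack ends φ m N S) from fun S => H _ S rfl
  intro n
  induction n using Nat.strong_induction_on with
  | _ n ih =>
    intro S hn h1 h2
    by_cases hS : Connected (indEnds ends S)
    · by_cases hSc : Connected (indEnds ends Sᶜ)
      · exact h S ⟨hS, hSc⟩
      · obtain ⟨A, B, hA, hB, hd, hAB, hedge⟩ := exists_split ends ((ne_univ_iff S).1 h2) hSc
        have hA' : Aᶜ ≠ univ := (ne_univ_iff _).2 (by rwa [compl_compl])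
        have hB' : Bᶜ ≠ univ := (ne_univ_iff _).2 (by rwa [compl_compl])
        have hA1 : (Aᶜ : Finset V).Nonempty := hB.mono fun x hx => mem_compl.2 fun hxA =>
          Finset.disjoint_left.1 hd hxA hx
        have hB1 : (Bᶜ : Finset V).Nonempty := hA.mono fun x hx => mem_compl.2 fun hxB =>
          Finset.disjoint_left.1 hd hx hxB
        have hcr : ∀ e, cross ends S e = cross ends A e + cross ends B e := fun e => by
          rw [← cross_compl, ← hAB, cross_union ends hd e (hedge e)]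
        have hc : (cut ends S : ℝ) = cut ends Aᶜ + cut ends Bᶜ := by
          simp only [cut_eq, cross_compl, hcr, Finset.sum_add_distrib]
        have hc' : cut ends S = cut ends Aᶜ + cut ends Bᶜ := by exact_mod_cast hc
        have pA := cut_pos hG hA1 hA'
        have pB := cut_pos hG hB1 hB'
        have : slack ends φ m N S = slack ends φ m N Aᶜ + slack ends φ m N Bᶜ := by
          have h0 := slack_compl (ends := ends) hdeg Sᶜ
          rw [compl_compl] at h0
          rw [h0, slack_compl hdeg, slack_compl hdeg, ← hAB, Finset.sum_union hd]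
          rw [Finset.sum_congr rfl fun e _ => cross_union ends hd e (hedge e), Finset.sum_add_distrib]
          ring
        rw [this]
        exact hP _ _ (ih _ (by omega) _ rfl hA1 hA') (ih _ (by omega) _ rfl hB1 hB')
    · obtain ⟨A, B, hA, hB, hd, hAB, hedge⟩ := exists_split ends h1 hS
      have hA' : A ≠ univ := fun hu => h2 (eq_univ_of_forall fun x => hAB ▸ mem_union_left _ (hu ▸ mem_univ x))
      have hB' : B ≠ univ := fun hu => h2 (eq_univ_of_forall fun x => hAB ▸ mem_union_right _ (hu ▸ mem_univ x))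
      have hcr : ∀ e, cross ends S e = cross ends A e + cross ends B e := fun e => by
        rw [← hAB, cross_union ends hd e (hedge e)]
      have hc : (cut ends S : ℝ) = cut ends A + cut ends B := by
        simp only [cut_eq, hcr, Finset.sum_add_distrib]
      have hc' : cut ends S = cut ends A + cut ends B := by exact_mod_cast hc
      have pA := cut_pos hG hA hA'
      have pB := cut_pos hG hB hB'
      have : slack ends φ m N S = slack ends φ m N A + slack ends φ m N B := by
        rw [slack_eq, slack_eq, slack_eq, Finset.sum_congr rfl fun e _ => hcr e,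
          Finset.sum_add_distrib, ← hAB, Finset.sum_union hd]
        ring
      rw [this]
      exact hP _ _ (ih _ (by omega) _ rfl hA hA') (ih _ (by omega) _ rfl hB hB')

theorem proper_of_elementary {ends : E → V × V} {S : Finset V} (h : IsElementary ends S) :
    S.Nonempty ∧ S ≠ univ := by
  obtain ⟨⟨a, ha⟩⟩ := h.1.1
  obtain ⟨⟨b, hb⟩⟩ := h.2.1
  exact ⟨⟨a, ha⟩, (ne_univ_iff S).2 ⟨b, hb⟩⟩

theorem existsUnique_isStable (ends : E → V × V) (T : Finset E)
    (hT : DualGr.IsTree (spanEnds ends T)) (b : ℤ) (φ : V → ℝ) (hφ : (∑ v : V, φ v) = (b : ℝ))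
    (hnd : Nondegenerate ends φ) :
    ∃! m : V → ℤ, totDeg m Tᶜ = b ∧ IsStable ends φ m Tᶜ := by
  let ends' := spanEnds ends T
  let k : {e // e ∈ T} → ℤ := fun e =>
    round ((∑ v ∈ side ends' e, φ v) - (∑ v ∈ side ends' e, (endCount ends Tᶜ v : ℝ) / 2))
  obtain ⟨m, ⟨hm1, hm2⟩, -⟩ := existsUnique_sideSum (R := ℤ) hT k (b - (Tᶜ).card)
  have htot : totDeg m Tᶜ = b := by simp [totDeg, hm2]
  have hdeg : (∑ v : V, φ v) = (totDeg m Tᶜ : ℝ) := by rw [htot, hφ]
  obtain ⟨y, hy⟩ := exists_eq_inc (R := ℝ) hT.1 (wt ends φ m Tᶜ) (sum_wt hdeg)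
  have hy1 : ∀ e, |y e| ≤ 1 / 2 := fun e => by
    have h0 := sum_side_inc (R := ℝ) hT y e
    rw [← Finset.sum_congr rfl fun v _ => hy v] at h0
    simp only [wt, Finset.sum_add_distrib, Finset.sum_sub_distrib] at h0
    have h1 : (∑ v ∈ side ends' e, (m v : ℝ)) = (k e : ℝ) := by
      rw [← hm1 e]; push_cast; rfl
    rw [h1] at h0
    have h2 := abs_sub_round ((∑ v ∈ side ends' e, φ v) - (∑ v ∈ side ends' e, (endCount ends Tᶜ v : ℝ) / 2))
    have h3 : y e = ((∑ v ∈ side ends' e, φ v) - (∑ v ∈ side ends' e, (endCount ends Tᶜ v : ℝ) / 2)) - (k e : ℝ) := by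
      linarith
    rw [h3]
    exact h2
  have hss : IsSemistable ends φ m Tᶜ := by
    rw [isSemistable_iff]
    intro S _ _
    rw [slack_eq, compl_compl, Finset.sum_congr rfl fun v _ => hy v, Finset.sum_comm]
    simp only [← Finset.sum_mul, LabDetH28.inc_sum]
    rw [Finset.sum_div, ← Finset.sum_coe_sort T, ← Finset.sum_add_distrib]
    refine Finset.sum_nonneg fun e _ => ?_
    simp only [cross, spanEnds]
    have := abs_le.1 (hy1 e)
    split_ifs <;> norm_num <;> linarith
  refine ⟨m, ⟨htot, hnd m _ hdeg hss⟩, fun m' ⟨htot', hst'⟩ => ?_⟩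
  have hdeg' : (∑ v : V, φ v) = (totDeg m' Tᶜ : ℝ) := by rw [htot', hφ]
  have hst := hnd m _ hdeg hss
  have hbound : ∀ (n : V → ℤ), (∑ v : V, φ v) = (totDeg n Tᶜ : ℝ) → IsStable ends φ n Tᶜ →
      ∀ e, |∑ v ∈ side ends' e, wt ends φ n Tᶜ v| < 1 / 2 := by
    intro n hn hs e
    have h1 : (side ends' e).Nonempty := ⟨_, fst_mem_side ends' e⟩
    have h2 : side ends' e ≠ univ := fun hu => not_snd_mem_side hT e (hu ▸ mem_univ _)
    have hc : ∑ f ∈ T, cross ends (side ends' e) f = 1 := by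
      rw [Finset.sum_eq_single e.1]
      · simp [cross, ends', show (ends e.1).1 ∈ side ends' e from fst_mem_side ends' e,
          show (ends e.1).2 ∉ side ends' e from not_snd_mem_side hT e]
      · intro f hf hne
        have := side_iff ends' (e := e) (e' := ⟨f, hf⟩) (fun h => hne (congrArg Subtype.val h))
        simp only [ends', spanEnds] at this
        simp [cross, ends', this]
      · exact fun h => absurd e.2 h
    have a := (isStable_iff ends φ n _).1 hs _ h1 h2
    have a' := (isStable_iff ends φ n _).1 hs _ (ne_univ_iff _ |>.1 h2)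
      ((ne_univ_iff _).2 (by rwa [compl_compl]))
    rw [slack_eq, compl_compl, hc] at a
    rw [slack_compl hn, compl_compl, hc] at a'
    exact abs_lt.2 ⟨by linarith, by linarith⟩
  refine sub_eq_zero.1 (eq_zero_of_sides (R := ℤ) hT (m' - m) (fun e => ?_) ?_)
  · have a := abs_lt.1 (hbound m hdeg hst e)
    have a' := abs_lt.1 (hbound m' hdeg' hst' e)
    simp only [wt, Finset.sum_add_distrib, Finset.sum_sub_distrib] at a a'
    have h1 : |((∑ v ∈ side ends' e, (m' - m) v : ℤ) : ℝ)| < 1 := by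
      push_cast [Pi.sub_apply, Finset.sum_sub_distrib]
      exact abs_lt.2 ⟨by linarith, by linarith⟩
    have h2 : |∑ v ∈ side ends' e, (m' - m) v| < 1 := by exact_mod_cast h1
    exact Int.abs_lt_one_iff.1 h2
  · have : ∑ v, m' v = ∑ v, m v := by
      simp only [totDeg] at htot htot'
      omega
    simp [Pi.sub_apply, Finset.sum_sub_distrib, this]

/-- A spanning tree with exactly one edge crossing an elementary set. -/
theorem exists_tree_cross {ends : E → V × V} (hG : Connected ends) {S : Finset V}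
    (hS : IsElementary ends S) :
    ∃ T : Finset E, DualGr.IsTree (spanEnds ends T) ∧ ∑ e ∈ T, cross ends S e = 1 := by
  classical
  obtain ⟨h1, h2⟩ := proper_of_elementary hS
  obtain ⟨e₀, he₀⟩ := exists_crossing hG h1 h2
  have key : ∀ A : Finset V, Connected (indEnds ends A) →
      ∃ T : Finset E, T ⊆ PhiStab.inner ends A ∧ T.card + 1 = A.card ∧
        ∀ x ∈ A, ∀ y ∈ A, Relation.ReflTransGen (Adj fun e : T => ends e.1) x y := by
    intro A hA
    obtain ⟨T', -, hT'⟩ := LabDetH28.exists_spanningTree _ univ (LabDetH28.connected_univ hA)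
    obtain ⟨hc, hcard⟩ := (LabDetH28.isSpanningTree_iff _ T').1 hT'
    refine ⟨T'.map (Function.Embedding.subtype _), fun e he => ?_, ?_, fun x hx y hy => ?_⟩
    · obtain ⟨e', -, rfl⟩ := mem_map.1 he
      exact e'.2
    · rw [card_map, hcard, Fintype.card_coe]
    · refine Relation.ReflTransGen.lift (fun a : {v // v ∈ A} => a.1) ?_ _ _ (hc.2 ⟨x, hx⟩ ⟨y, hy⟩)
      rintro a b ⟨e, he⟩
      refine ⟨⟨e.1.1, mem_map.2 ⟨e.1, e.2, rfl⟩⟩, ?_⟩
      simp only [indEnds, Prod.ext_iff, Subtype.ext_iff] at he ⊢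
      exact he
  obtain ⟨T₁, hT₁, hc₁, hr₁⟩ := key S hS.1
  obtain ⟨T₂, hT₂, hc₂, hr₂⟩ := key Sᶜ hS.2
  let T := insert e₀ (T₁ ∪ T₂)
  have hin : ∀ {A : Finset V} {e : E}, e ∈ PhiStab.inner ends A → (ends e).1 ∈ A ∧ (ends e).2 ∈ A :=
    fun h => (mem_filter.1 h).2
  have hd : Disjoint T₁ T₂ := disjoint_left.2 fun e a b =>
    mem_compl.1 (hin (hT₂ b)).1 (hin (hT₁ a)).1
  have hz : ∀ e ∈ T₁ ∪ T₂, cross ends S e = 0 := fun e he => by
    rcases mem_union.1 he with h | h
    · simp [cross, (hin (hT₁ h)).1, (hin (hT₁ h)).2]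
    · simp [cross, mem_compl.1 (hin (hT₂ h)).1, mem_compl.1 (hin (hT₂ h)).2]
  have hne : e₀ ∉ T₁ ∪ T₂ := fun h => (ne_of_gt he₀) (hz e₀ h)
  have hcard : T.card + 1 = Fintype.card V := by
    rw [card_insert_of_notMem hne, card_union_of_disjoint hd]
    have h3 := card_compl S
    have h4 : S.card ≤ Fintype.card V := card_le_univ S
    omega
  have hmono : ∀ T' : Finset E, T' ⊆ T → ∀ {x y : V},
      Relation.ReflTransGen (Adj fun e : T' => ends e.1) x y →
      Relation.ReflTransGen (Adj fun e : T => ends e.1) x y := fun T' h _ _ hxy =>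
    Relation.ReflTransGen.mono (fun a b ⟨e, he⟩ => ⟨⟨e.1, h e.2⟩, he⟩) _ _ hxy
  have r₁ : ∀ {x y : V}, x ∈ S → y ∈ S → Relation.ReflTransGen (Adj fun e : T => ends e.1) x y :=
    fun hx hy => hmono T₁ (fun e he => mem_insert_of_mem (mem_union_left _ he)) (hr₁ _ hx _ hy)
  have r₂ : ∀ {x y : V}, x ∉ S → y ∉ S → Relation.ReflTransGen (Adj fun e : T => ends e.1) x y :=
    fun hx hy => hmono T₂ (fun e he => mem_insert_of_mem (mem_union_right _ he))
      (hr₂ _ (mem_compl.2 hx) _ (mem_compl.2 hy))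
  obtain ⟨a, c, ha, hc, hac⟩ : ∃ a c, a ∈ S ∧ c ∉ S ∧ Adj (fun e : T => ends e.1) a c := by
    by_cases ha : (ends e₀).1 ∈ S
    · refine ⟨_, (ends e₀).2, ha, fun hc => ?_, ⟨⟨e₀, mem_insert_self _ _⟩, Or.inl rfl⟩⟩
      simp [cross, ha, hc] at he₀
    · refine ⟨(ends e₀).2, _, ?_, ha, ⟨⟨e₀, mem_insert_self _ _⟩, Or.inr rfl⟩⟩
      by_contra hc
      simp [cross, ha, hc] at he₀
  refine ⟨T, (LabDetH28.isSpanningTree_iff ends T).2 ⟨⟨hG.1, fun x y => ?_⟩, hcard⟩, ?_⟩
  · by_cases hx : x ∈ S <;> by_cases hy : y ∈ S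
    · exact r₁ hx hy
    · exact ((r₁ hx ha).tail hac).trans (r₂ hc hy)
    · exact ((r₂ hx hc).tail (LabDetH28.adj_symm _ hac)).trans (r₁ ha hy)
    · exact r₂ hx hy
  · rw [sum_insert hne, sum_eq_zero hz, add_zero]
    by_cases h : (ends e₀).1 ∈ S <;> by_cases h' : (ends e₀).2 ∈ S <;>
      simp [cross, h, h'] at he₀ ⊢

end Groth.Agent.PhiStab20
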