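import Groth.Prelude.Def_W4c5modbuncurvesppStab
import Groth.Agent.Lib.LabDetH28.Tree

/-! Vertex weightings of a tree are determined by their side sums and their total. -/

set_option autoImplicit false

open Finset LabGraph PhiStab

namespace Groth.Agent.PhiStab20

universe u

variable {V E : Type u} [Fintype V] [Fintype E] [DecidableEq V] [DecidableEq E]
variable {R : Type*} [CommRing R]

theorem fst_mem_side (ends : E → V × V) (e : E) : (ends e).1 ∈ side ends e := by
  simp [side, Relation.ReflTransGen.refl]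

theorem side_iff (ends : E → V × V) {e e' : E} (h : e' ≠ e) :
    (ends e').1 ∈ side ends e ↔ (ends e').2 ∈ side ends e := by
  have ha : Adj (spanEnds ends (univ.erase e)) (ends e').1 (ends e').2 :=
    ⟨⟨e', mem_erase.2 ⟨h, mem_univ _⟩⟩, Or.inl rfl⟩
  simp only [side, mem_filter, mem_univ, true_and]
  exact ⟨fun h => h.tail ha, fun h => h.tail (LabDetH28.adj_symm _ ha)⟩

theorem not_snd_mem_side {ends : E → V × V} (hT : DualGr.IsTree ends) (e : E) :
    (ends e).2 ∉ side ends e := by
  intro h
  simp only [side, mem_filter, mem_univ, true_and] at h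
  have key : ∀ v w : V, Relation.ReflTransGen (Adj ends) v w →
      Relation.ReflTransGen (Adj (spanEnds ends (univ.erase e))) v w := by
    intro v w hvw
    induction hvw with
    | refl => exact Relation.ReflTransGen.refl
    | @tail b c _ hbc ih =>
      refine ih.trans ?_
      obtain ⟨e', he'⟩ := hbc
      by_cases hee : e' = e
      · subst hee
        have h' : Relation.ReflTransGen (Adj (spanEnds ends (univ.erase e'))) (ends e').2 (ends e').1 := by
          haveI : Std.Symm (Adj (spanEnds ends (univ.erase e'))) :=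
            ⟨fun x y h => LabDetH28.adj_symm _ h⟩
          exact Std.Symm.symm (r := Relation.ReflTransGen (Adj (spanEnds ends (univ.erase e')))) _ _ h
        rcases he' with he' | he' <;> rw [he'] at h h'
        · exact h
        · exact h'
      · exact Relation.ReflTransGen.single ⟨⟨e', mem_erase.2 ⟨hee, mem_univ _⟩⟩, he'⟩
  have hc : Connected (spanEnds ends (univ.erase e)) := ⟨hT.1.1, fun v w => key v w (hT.1.2 v w)⟩
  have h1 := LabDetH28.card_le_of_connected hc
  have h2 := LabDetH28.card_le_of_forest hT.1.1 hT.2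
  simp only [Fintype.card_coe, Finset.card_erase_of_mem (mem_univ e), Finset.card_univ] at h1
  have : 0 < Fintype.card E := Fintype.card_pos_iff.2 ⟨e⟩
  omega

theorem sum_side_inc {ends : E → V × V} (hT : DualGr.IsTree ends) (x : E → R) (e : E) :
    ∑ v ∈ side ends e, ∑ e', LabDetH28.inc R ends v e' * x e' = -x e := by
  rw [Finset.sum_comm]
  simp only [← Finset.sum_mul, LabDetH28.inc_sum]
  rw [Finset.sum_eq_single e]
  · rw [if_neg (not_snd_mem_side hT e), if_pos (fst_mem_side ends e)]
    ring
  · intro e' _ h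
    simp only [side_iff ends h, sub_self, zero_mul]
  · simp

theorem sum_univ_inc (ends : E → V × V) (x : E → R) :
    ∑ v, ∑ e', LabDetH28.inc R ends v e' * x e' = 0 := by
  rw [Finset.sum_comm]
  refine Finset.sum_eq_zero fun e _ => ?_
  rw [← Finset.sum_mul, LabDetH28.inc_sum]
  simp

theorem exists_eq_inc {ends : E → V × V} (hG : Connected ends) (μ : V → R) (h : ∑ v, μ v = 0) :
    ∃ x : E → R, ∀ v, μ v = ∑ e, LabDetH28.inc R ends v e * x e := by
  obtain ⟨v₀⟩ := hG.1
  obtain ⟨x, hx⟩ := LabDetH28.exists_mulVec_eq hG v₀ fun v => μ v.1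
  have h1 : ∀ v, v ≠ v₀ → μ v = ∑ e, LabDetH28.inc R ends v e * x e :=
    fun v hv => (congrFun hx ⟨v, hv⟩).symm
  refine ⟨x, fun v => ?_⟩
  by_cases hv : v = v₀
  · subst hv
    have h2 := sum_univ_inc ends x
    rw [← Finset.add_sum_erase _ _ (mem_univ v)] at h h2
    rw [Finset.sum_congr rfl fun w hw => h1 w (Finset.ne_of_mem_erase hw)] at h
    exact add_right_cancel (h.trans h2.symm)
  · exact h1 v hv

theorem eq_zero_of_sides {ends : E → V × V} (hT : DualGr.IsTree ends) (μ : V → R)
    (hs : ∀ e, ∑ v ∈ side ends e, μ v = 0) (h : ∑ v, μ v = 0) : μ = 0 := by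
  obtain ⟨x, hx⟩ := exists_eq_inc hT.1 μ h
  have hx0 : ∀ e, x e = 0 := fun e => by
    have := hs e
    rw [Finset.sum_congr rfl fun v _ => hx v, sum_side_inc hT] at this
    exact neg_eq_zero.1 this
  funext v
  rw [hx v]
  simp [hx0]

theorem existsUnique_sideSum {ends : E → V × V} (hT : DualGr.IsTree ends) (c : E → R) (c₀ : R) :
    ∃! φ : V → R, (∀ e : E, (∑ v ∈ side ends e, φ v) = c e) ∧ (∑ v : V, φ v) = c₀ := by
  obtain ⟨v₀⟩ := hT.1.1
  let δ : V → R := fun v => if v = v₀ then c₀ else 0
  let x : E → R := fun e => (∑ v ∈ side ends e, δ v) - c e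
  refine ⟨fun v => δ v + ∑ e, LabDetH28.inc R ends v e * x e, ⟨fun e => ?_, ?_⟩, ?_⟩
  · rw [Finset.sum_add_distrib, sum_side_inc hT]
    ring
  · rw [Finset.sum_add_distrib, sum_univ_inc]
    simp [δ]
  · rintro φ ⟨h1, h2⟩
    refine sub_eq_zero.1 (eq_zero_of_sides hT _ (fun e => ?_) ?_)
    · simp only [Pi.sub_apply, Finset.sum_sub_distrib, Finset.sum_add_distrib, sum_side_inc hT, h1]
      simp only [x]
      ring
    · simp only [Pi.sub_apply, Finset.sum_sub_distrib, Finset.sum_add_distrib, sum_univ_inc, h2]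
      simp [δ]

end Groth.Agent.PhiStab20
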